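import Cfsg.Agent.CharDeep.CC.Main
import Cfsg.Agent.CharDeep.SzUniq.Main
import Cfsg.Agent.OddLocal43.NilpotentAction
import Cfsg.Agent.FGS77.SolvSup
import Cfsg.Agent.PF14.Compose
import Cfsg.Agent.S0225
import Cfsg.Agent.Lib.Transfer.Hall

/-!
# Groups whose maximal solvable subgroups carry a Frobenius system
-/

set_option autoImplicit false

namespace Cfsg.Agent.CharDeep.FSys

open scoped Pointwise
open CA (cent nrm mem_cent)

variable {G : Type*} [Group G]

/-- Maximal solvable subgroups. -/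
def MS (M : Subgroup G) : Prop :=
  Group.IsSolvable M ∧ ∀ M' : Subgroup G, M < M' → ¬ Group.IsSolvable M'

/-- The hypothesis on the system `F`. -/
structure Sys (F : Subgroup G → Subgroup G) : Prop where
  le : ∀ {M}, MS M → F M ≤ M
  normal : ∀ {M}, MS M → M ≤ Subgroup.normalizer (F M : Set G)
  fpf : ∀ {M}, MS M → ∀ a ∈ M, a ∉ F M → ∀ x ∈ F M, x * a = a * x → x = 1
  ti : ∀ {M}, MS M → ∀ g : G, g ∉ M → F M ⊓ (MulAut.conj g • F M) = ⊥
  ne : ∀ {M}, MS M → F M ≠ ⊥ ∨ IsMulCommutative M

variable [Finite G]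

theorem exists_ms {H : Subgroup G} (hH : Group.IsSolvable H) : ∃ M, MS M ∧ H ≤ M := by
  obtain ⟨M, hle, hM⟩ := Finite.exists_le_maximal (p := fun K : Subgroup G => Group.IsSolvable K) hH
  exact ⟨M, ⟨hM.prop, fun M' hlt h => hlt.not_ge (hM.2 h hlt.le)⟩, hle⟩

theorem ms_ne_top (hG : ¬ Group.IsSolvable G) {M : Subgroup G} (hM : MS M) : M ≠ ⊤ := by
  intro h
  have h2 : Group.IsSolvable M := hM.1
  exact hG (Group.isSolvable_of_surjective (f := M.subtype) fun g =>
    ⟨⟨g, h ▸ Subgroup.mem_top g⟩, rfl⟩)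

theorem solvable_of_odd {H : Type*} [Group H] [Finite H] (h : Odd (Nat.card H)) :
    Group.IsSolvable H := PF14.feitThompson H h

variable {F : Subgroup G → Subgroup G} (hF : Sys F)
include hF

theorem mem_of_fixed {M : Subgroup G} (hM : MS M) {x y : G} (hx : x ∈ F M) (hx1 : x ≠ 1)
    (hy : x * y = y * x) : y ∈ F M := by
  by_contra hyF
  refine hx1 (hF.fpf hM y ?_ hyF x hx hy)
  by_contra hyM
  refine hx1 (Subgroup.mem_bot.1 (hF.ti hM y hyM ▸ Subgroup.mem_inf.2 ⟨hx, ?_⟩))
  rw [Subgroup.mem_pointwise_smul_iff_inv_smul_mem, ← map_inv, MulAut.smul_def, MulAut.conj_apply,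
    inv_inv, mul_assoc, hy, inv_mul_cancel_left]
  exact hx

theorem normalizer_eq {M : Subgroup G} (hM : MS M) (h1 : F M ≠ ⊥) :
    Subgroup.normalizer (F M : Set G) = M := by
  refine le_antisymm (fun g hg => ?_) (hF.normal hM)
  by_contra hgM
  obtain ⟨x, hx, hx1⟩ := (Subgroup.bot_or_exists_ne_one (F M)).resolve_left h1
  refine hx1 (Subgroup.mem_bot.1 (hF.ti hM g hgM ▸ Subgroup.mem_inf.2 ⟨hx, ?_⟩))
  rw [Subgroup.mem_pointwise_smul_iff_inv_smul_mem, ← map_inv, MulAut.smul_def, MulAut.conj_apply,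
    inv_inv]
  exact (Subgroup.mem_normalizer_iff''.1 hg x).1 hx

omit hF in
/-- Burnside's theorem for a central Sylow `2`-subgroup. -/
theorem solvable_of_central (S : Sylow 2 G)
    (h : Subgroup.normalizer ((S : Subgroup G) : Set G) ≤
      Subgroup.centralizer ((S : Subgroup G) : Set G)) : Group.IsSolvable G := by
  haveI : Fact (Nat.Prime 2) := ⟨Nat.prime_two⟩
  have hcompl := MonoidHom.ker_transferSylow_isComplement' S h
  set K := (MonoidHom.transferSylow S h).ker
  have hodd : Odd (Nat.card K) := by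
    rw [← hcompl.index_eq_card]
    exact Nat.odd_iff.2 (Nat.two_dvd_ne_zero.1 S.not_dvd_index)
  haveI := solvable_of_odd hodd
  haveI : Group.IsNilpotent (S : Subgroup G) := S.2.isNilpotent
  exact Group.isSolvable_of_ker_le_range K.subtype (MonoidHom.transferSylow S h)
    (K.range_subtype).ge

/-- A non-solvable group with a system has no non-trivial solvable normal subgroup. -/
theorem normal_eq_bot (hG : ¬ Group.IsSolvable G) {N : Subgroup G} [N.Normal]
    (hN : Group.IsSolvable N) : N = ⊥ := by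
  classical
  by_contra hN1
  -- an abelian normal subgroup
  obtain ⟨A, hAn, hA1, hAc⟩ : ∃ A : Subgroup G, A.Normal ∧ A ≠ ⊥ ∧
      ∀ a ∈ A, ∀ b ∈ A, a * b = b * a := by
    obtain ⟨k, hk⟩ := (Group.isSolvable_def N).1 hN
    clear hN
    induction k with
    | zero =>
      rw [derivedSeries_zero] at hk
      refine absurd ((Subgroup.eq_bot_iff_forall N).2 fun x hx => ?_) hN1
      exact congrArg Subtype.val (Subgroup.mem_bot.1 (hk.le (Subgroup.mem_top (⟨x, hx⟩ : N))))
    | succ k ih =>
      rcases eq_or_ne (derivedSeries N k) ⊥ with h | h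
      · exact ih h
      refine ⟨(derivedSeries N k).map N.subtype, inferInstance, fun h' => h ?_, ?_⟩
      · exact (Subgroup.map_eq_bot_iff_of_injective _ N.subtype_injective).1 h'
      · rintro _ ⟨a, ha, rfl⟩ _ ⟨b, hb, rfl⟩
        rw [derivedSeries_succ] at hk
        exact congrArg Subtype.val (commutatorElement_eq_one_iff_mul_comm.1
          (Subgroup.mem_bot.1 (hk.le (Subgroup.commutator_mem_commutator ha hb))))
  haveI := hAn
  have hAs : Group.IsSolvable A :=
    Group.isSolvable_of_comm fun a b => Subtype.ext (hAc a a.2 b b.2)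
  have hAM : ∀ {M}, MS M → A ≤ M := fun {M} hM => by
    by_contra hle
    refine hM.2 (A ⊔ M) (lt_of_le_of_ne le_sup_right fun h => hle (h ▸ le_sup_left)) ?_
    exact FGS77.isSolvable_sup_of_normalizes hAs hM.1 (le_top.trans (Subgroup.normalizer_eq_top_iff.2 hAn).ge)
  have hbot : ∀ {M}, MS M → F M = ⊥ := fun {M} hM => by
    by_contra h1
    rcases eq_or_ne (A ⊓ F M) ⊥ with hI | hI
    · obtain ⟨a, ha, ha1⟩ := (Subgroup.bot_or_exists_ne_one A).resolve_left hA1
      obtain ⟨x, hx, hx1⟩ := (Subgroup.bot_or_exists_ne_one (F M)).resolve_left h1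
      refine ha1 (Subgroup.mem_bot.1 (hI.le (Subgroup.mem_inf.2 ⟨ha, mem_of_fixed hF hM hx hx1 ?_⟩)))
      have hc : x * a * x⁻¹ * a⁻¹ ∈ A ⊓ F M := Subgroup.mem_inf.2
        ⟨A.mul_mem (hAn.conj_mem a ha x) (A.inv_mem ha), by
          rw [mul_assoc x, mul_assoc x]
          exact (F M).mul_mem hx ((Subgroup.mem_normalizer_iff.1 (hF.normal hM (hAM hM ha)) x⁻¹).1
            ((F M).inv_mem hx))⟩
      exact mul_inv_eq_iff_eq_mul.1 (mul_inv_eq_one.1 (Subgroup.mem_bot.1 (hI.le hc)))
    · obtain ⟨b, hb, hb1⟩ := (Subgroup.bot_or_exists_ne_one _).resolve_left hI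
      have hAF : A ≤ F M := fun a ha => mem_of_fixed hF hM hb.2 hb1 (hAc b hb.1 a ha)
      have htop : M = ⊤ := eq_top_iff.2 fun g _ => by
        by_contra hg
        refine hb1 (Subgroup.mem_bot.1 (hF.ti hM g hg ▸ Subgroup.mem_inf.2 ⟨hb.2, ?_⟩))
        rw [Subgroup.mem_pointwise_smul_iff_inv_smul_mem, ← map_inv, MulAut.smul_def,
          MulAut.conj_apply]
        exact hAF (hAn.conj_mem b hb.1 g⁻¹)
      exact ms_ne_top hG hM htop
  obtain ⟨S⟩ := (inferInstance : Nonempty (Sylow 2 G))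
  haveI : Fact (Nat.Prime 2) := ⟨Nat.prime_two⟩
  have hS : Group.IsSolvable (Subgroup.normalizer ((S : Subgroup G) : Set G)) := by
    haveI : Group.IsNilpotent (S : Subgroup G) := S.2.isNilpotent
    haveI : ((S : Subgroup G).subgroupOf (Subgroup.normalizer ((S : Subgroup G) : Set G))).Normal :=
      Subgroup.normal_in_normalizer
    haveI : Group.IsSolvable ((S : Subgroup G).subgroupOf
        (Subgroup.normalizer ((S : Subgroup G) : Set G))) :=
      Group.isSolvable_of_isSolvable_injective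
        (f := (Subgroup.subgroupOfEquivOfLe (Subgroup.le_normalizer (H := (S : Subgroup G)))).toMonoidHom)
        (Subgroup.subgroupOfEquivOfLe Subgroup.le_normalizer).injective
    refine (Group.isSolvable_iff_subgroup_quotient
      ((S : Subgroup G).subgroupOf (Subgroup.normalizer ((S : Subgroup G) : Set G)))).2
      ⟨inferInstance, solvable_of_odd ?_⟩
    refine Nat.odd_iff.2 (Nat.two_dvd_ne_zero.1 fun hd => S.not_dvd_index (hd.trans ?_))
    rw [← Subgroup.index_eq_card]
    exact Dvd.intro _ (Subgroup.relIndex_mul_index Subgroup.le_normalizer)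
  obtain ⟨M, hM, hSM⟩ := exists_ms hS
  haveI := (hF.ne hM).resolve_left (not_not.2 (hbot hM))
  refine hG (solvable_of_central S fun n hn => Subgroup.mem_centralizer_iff.2 fun s hs => ?_)
  exact congrArg Subtype.val (IsMulCommutative.is_comm.comm
    (⟨s, hSM (Subgroup.le_normalizer hs)⟩ : M) ⟨n, hSM hn⟩)

/-- `F(M)` is a proper subgroup of `M`. -/
theorem ne_self (hG : ¬ Group.IsSolvable G) {M : Subgroup G} (hM : MS M) (h1 : F M ≠ ⊥) :
    F M ≠ M := by
  intro he
  have htop : M ≠ ⊤ := ms_ne_top hG hM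
  have hC : Cfsg.IsFrobeniusComplement M := ⟨he ▸ h1, htop, fun g hg => by
    have := hF.ti hM g hg
    rwa [he] at this⟩
  obtain ⟨N, hNc, hNn, hnil⟩ := Frobenius.frobeniusKernel_isNilpotent hC
  obtain ⟨N', hN'c, -, hcomp⟩ := Frobenius.exists_frobeniusKernel_subgroup hC
  obtain rfl : N' = N := SetLike.coe_injective (hN'c.trans hNc.symm)
  haveI := hNn
  refine htop (Subgroup.isComplement'_bot_left.1 ?_)
  rwa [← normal_eq_bot hF hG (N := N') inferInstance]

theorem exists_prime_not_mem (hG : ¬ Group.IsSolvable G) {M : Subgroup G} (hM : MS M)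
    (h1 : F M ≠ ⊥) : ∃ (p : ℕ) (a : G), p.Prime ∧ a ∈ M ∧ orderOf a = p ∧ a ∉ F M := by
  by_contra hno
  push Not at hno
  refine ne_self hF hG hM h1 (le_antisymm (hF.le hM) fun y hy => ?_)
  rcases eq_or_ne y 1 with rfl | hy1
  · exact one_mem _
  set p := (orderOf y).minFac
  have hp : p.Prime := Nat.minFac_prime fun h => hy1 (orderOf_eq_one_iff.1 h)
  have ho : orderOf (y ^ (orderOf y / p)) = p :=
    orderOf_pow_orderOf_div (orderOf_pos y).ne' (Nat.minFac_dvd _)
  refine mem_of_fixed hF hM (hno p _ hp (pow_mem hy _) ho) (fun h => hp.ne_one ?_)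
    ((Commute.refl y).pow_left _).eq
  rw [← ho, h, orderOf_one]

theorem isNilpotent (hG : ¬ Group.IsSolvable G) {M : Subgroup G} (hM : MS M) (h1 : F M ≠ ⊥) :
    Group.IsNilpotent (F M) := by
  obtain ⟨p, a, hp, ha, ho, haF⟩ := exists_prime_not_mem hF hG hM h1
  have hmem : ∀ r ∈ Subgroup.zpowers a, r ∈ F M → r = 1 := by
    rintro r hr hrF
    by_contra hr1
    refine haF (mem_of_fixed hF hM hrF hr1 ?_)
    obtain ⟨k, rfl⟩ := Subgroup.mem_zpowers_iff.1 hr
    exact ((Commute.refl a).zpow_left k).eq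
  refine OddLocal43.isNilpotent_of_frobenius (F M) (Subgroup.zpowers a) h1 ?_
    (Subgroup.zpowers_le.2 (hF.normal hM ha))
    ((Subgroup.eq_bot_iff_forall _).2 fun r hr => hmem r hr.2 hr.1) fun r hr hr1 => ?_
  · rw [Subgroup.zpowers_ne_bot]
    intro h
    rw [h, orderOf_one] at ho
    exact hp.ne_one ho.symm
  refine (Subgroup.eq_bot_iff_forall _).2 fun x hx => ?_
  refine hF.fpf hM r (Subgroup.zpowers_le.2 ha hr) (fun h => hr1 (hmem r hr h)) x hx.1 ?_
  exact Subgroup.mem_centralizer_singleton_iff.1 hx.2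

theorem main : Group.IsSolvable G ∨
    (∃ (K : Type) (_ : Field K) (_ : Fintype K), (∃ n : ℕ, 2 ≤ n ∧ Fintype.card K = 2 ^ n) ∧
      Nonempty (G ≃* Matrix.SpecialLinearGroup (Fin 2) K)) ∨
    Cfsg.Lie.IsoSuzuki G := by
  classical
  by_cases hG : Group.IsSolvable G
  · exact Or.inl hG
  right
  haveI : Fact (Nat.Prime 2) := ⟨Nat.prime_two⟩
  obtain ⟨S⟩ := (inferInstance : Nonempty (Sylow 2 G))
  have heven : Even (Nat.card G) := Nat.not_odd_iff_even.1 fun h => hG (solvable_of_odd h)
  -- a maximal solvable subgroup containing the normaliser of a Sylow subgroup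
  obtain ⟨M, hM, hSM⟩ : ∃ M, MS M ∧ Subgroup.normalizer ((S : Subgroup G) : Set G) ≤ M := by
    refine exists_ms ?_
    haveI : Group.IsNilpotent (S : Subgroup G) := S.2.isNilpotent
    haveI : ((S : Subgroup G).subgroupOf (Subgroup.normalizer ((S : Subgroup G) : Set G))).Normal :=
      Subgroup.normal_in_normalizer
    haveI : Group.IsSolvable ((S : Subgroup G).subgroupOf
        (Subgroup.normalizer ((S : Subgroup G) : Set G))) :=
      Group.isSolvable_of_isSolvable_injective
        (f := (Subgroup.subgroupOfEquivOfLe (Subgroup.le_normalizer (H := (S : Subgroup G)))).toMonoidHom)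
        (Subgroup.subgroupOfEquivOfLe Subgroup.le_normalizer).injective
    refine (Group.isSolvable_iff_subgroup_quotient
      ((S : Subgroup G).subgroupOf (Subgroup.normalizer ((S : Subgroup G) : Set G)))).2
      ⟨inferInstance, solvable_of_odd ?_⟩
    refine Nat.odd_iff.2 (Nat.two_dvd_ne_zero.1 fun hd => S.not_dvd_index (hd.trans ?_))
    rw [← Subgroup.index_eq_card]
    exact Dvd.intro _ (Subgroup.relIndex_mul_index Subgroup.le_normalizer)
  have hSle : (S : Subgroup G) ≤ M := Subgroup.le_normalizer.trans hSM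
  have hF1 : F M ≠ ⊥ := fun h => hG (solvable_of_central S fun n hn =>
    Subgroup.mem_centralizer_iff.2 fun s hs => by
      haveI := (hF.ne hM).resolve_left (not_not.2 h)
      exact congrArg Subtype.val (IsMulCommutative.is_comm.comm
        (⟨s, hSle hs⟩ : M) ⟨n, hSM hn⟩))
  obtain ⟨u, hu, huF, hu1⟩ : ∃ u ∈ (S : Subgroup G), u ∈ F M ∧ u ≠ 1 := by
    by_contra hno
    push Not at hno
    -- no Klein four-group, hence a central involution
    obtain ⟨z, hz, N, hN, hNodd, hzN⟩ := S0225.result heven fun E hE => by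
      have hE2 : IsPGroup 2 E := IsPGroup.of_card (n := 2) hE.card_four
      obtain ⟨S', hS'⟩ := hE2.exists_le_sylow
      obtain ⟨g, rfl⟩ := MulAction.exists_smul_eq G S' S
      have hmem : ∀ e ∈ E, g * e * g⁻¹ ∈ (↑(g • S') : Subgroup G) := fun e he => by
        rw [Sylow.coe_subgroup_smul, Subgroup.mem_pointwise_smul_iff_inv_smul_mem, ← map_inv,
          MulAut.smul_def, MulAut.conj_apply]
        simpa [mul_assoc] using hS' he
      haveI := hE
      obtain ⟨x, hx, hx1⟩ := (Subgroup.bot_or_exists_ne_one (F M)).resolve_left hF1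
      have hinv : ∀ e : E, e ≠ 1 → g * e * g⁻¹ * x * (g * e * g⁻¹) = x⁻¹ := fun e he => by
        have he2 : (e : G) * e = 1 := congrArg Subtype.val (IsKleinFour.mul_self e)
        have hsq : g * e * g⁻¹ * (g * e * g⁻¹) = 1 := by
          rw [show g * (e : G) * g⁻¹ * (g * e * g⁻¹) = g * (e * e) * g⁻¹ by group, he2, mul_one,
            mul_inv_cancel]
        have hne : g * e * g⁻¹ ≠ 1 := fun h => he (Subtype.ext (conj_eq_one_iff.1 h))
        have heM : g * e * g⁻¹ ∈ M := hSle (hmem e e.2)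
        have hnF : g * e * g⁻¹ ∉ F M := fun h => hne (hno _ (hmem e e.2) h)
        refine CA.inverts_of_fpf hsq (D := F M) (fun n hn => ?_) (fun n hn hf => ?_) x hx
        · have := (Subgroup.mem_normalizer_iff.1 (hF.normal hM heM) n).1 hn
          rwa [inv_eq_of_mul_eq_one_right hsq] at this
        · refine hF.fpf hM _ heM hnF n hn ?_
          calc n * (g * e * g⁻¹) = (g * e * g⁻¹) * n * ((g * e * g⁻¹) * (g * e * g⁻¹)) := by
                rw [show (g * e * g⁻¹) * n * ((g * e * g⁻¹) * (g * e * g⁻¹))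
                  = (g * e * g⁻¹) * n * (g * e * g⁻¹) * (g * e * g⁻¹) by group, hf]
            _ = (g * e * g⁻¹) * n := by rw [hsq, mul_one]
      haveI : Nontrivial E := by
        rw [← Finite.one_lt_card_iff_nontrivial, hE.card_four]; norm_num
      obtain ⟨a, ha⟩ := exists_ne (1 : E)
      obtain ⟨b, hb, hba⟩ : ∃ b : E, b ≠ 1 ∧ b ≠ a := by
        by_contra hno'
        push Not at hno'
        have := Fintype.ofFinite E
        have h4 := hE.card_four
        rw [Nat.card_eq_fintype_card] at h4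
        have hsub : (Finset.univ : Finset E) ⊆ {1, a} := fun b _ => by
          by_cases hb : b = 1
          · simp [hb]
          · simp [hno' b hb]
        have := (Finset.card_le_card hsub).trans (Finset.card_le_two)
        rw [Finset.card_univ, h4] at this
        omega
      have hab : a * b ≠ 1 := fun h => hba (by
        rw [mul_eq_one_iff_eq_inv, inv_eq_of_mul_eq_one_right (IsKleinFour.mul_self b)] at h
        exact h.symm)
      have h3 := hinv (a * b) hab
      have h1 := hinv a ha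
      have h2 := hinv b hb
      have hsq : ∀ e : E, g * e * g⁻¹ * (g * e * g⁻¹) = 1 := fun e => by
        rw [show g * (e : G) * g⁻¹ * (g * e * g⁻¹) = g * (e * e) * g⁻¹ by group,
          show (e : G) * e = 1 from congrArg Subtype.val (IsKleinFour.mul_self e), mul_one,
          mul_inv_cancel]
      have hprod : g * (↑(a * b) : G) * g⁻¹ = g * a * g⁻¹ * (g * b * g⁻¹) := by
        rw [Subgroup.coe_mul]; group
      have hprod' : g * (↑(a * b) : G) * g⁻¹ = g * b * g⁻¹ * (g * a * g⁻¹) := by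
        rw [mul_comm_of_exponent_two IsKleinFour.exponent_two a b, Subgroup.coe_mul]; group
      -- `a` and `b` invert `x`, so `a * b` fixes it
      have hxx : x⁻¹ = x := by
        rw [← h3]
        conv_lhs =>
          congr
          · congr
            · rw [hprod]
          · rw [hprod']
        calc g * a * g⁻¹ * (g * b * g⁻¹) * x * (g * b * g⁻¹ * (g * a * g⁻¹))
            = g * a * g⁻¹ * (g * b * g⁻¹ * x * (g * b * g⁻¹)) * (g * a * g⁻¹) := by
              simp only [mul_assoc]
          _ = g * a * g⁻¹ * x⁻¹ * (g * a * g⁻¹) := by rw [h2]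
          _ = (g * a * g⁻¹ * x * (g * a * g⁻¹))⁻¹ := by
              conv_lhs => rw [← inv_eq_of_mul_eq_one_right (hsq a)]
              group
          _ = x := by rw [h1, inv_inv]
      -- so `x` is fixed by `a`, in contradiction to the inversion
      refine hx1 (hF.fpf hM _ (hSle (hmem a a.2)) (fun h => ha (Subtype.ext (conj_eq_one_iff.1
        (hno _ (hmem a a.2) h)))) x hx ?_)
      rw [hxx] at h1
      calc x * (g * a * g⁻¹) = g * a * g⁻¹ * x * (g * a * g⁻¹) * (g * a * g⁻¹) := by rw [h1]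
        _ = g * a * g⁻¹ * x := by rw [mul_assoc _ (g * a * g⁻¹) (g * a * g⁻¹), hsq a, mul_one]
    haveI := hN
    have hN1 := normal_eq_bot hF hG (N := N) (solvable_of_odd hNodd)
    subst hN1
    have hzc : z ∈ Subgroup.center G := Subgroup.mem_center_iff.2 fun g => by
      have := Subgroup.mem_bot.1 (hzN g)
      exact (mul_inv_eq_iff_eq_mul.1 (mul_inv_eq_one.1 this)).symm
    have hz1 : z = 1 := Subgroup.mem_bot.1 (normal_eq_bot hF hG (N := Subgroup.center G)
      (Group.isSolvable_of_comm fun a b => Subtype.ext (Subgroup.mem_center_iff.1 b.2 a)) ▸ hzc)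
    rw [hz1, orderOf_one] at hz
    norm_num at hz
  haveI hnil := isNilpotent hF hG hM hF1
  -- the Sylow subgroup lies in `F`
  have hSF : (S : Subgroup G) ≤ F M := by
    haveI : Nontrivial (S : Subgroup G) := ⟨⟨⟨u, hu⟩, 1, fun h => hu1 (congrArg Subtype.val h)⟩⟩
    haveI := S.2.center_nontrivial
    obtain ⟨⟨⟨z, hzS⟩, hz⟩, hz1⟩ := exists_ne (1 : Subgroup.center (S : Subgroup G))
    have hzc : ∀ y ∈ (S : Subgroup G), z * y = y * z := fun y hy =>
      (congrArg Subtype.val (Subgroup.mem_center_iff.1 hz ⟨y, hy⟩)).symm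
    have hzF : z ∈ F M := mem_of_fixed hF hM huF hu1 (hzc u hu).symm
    exact fun y hy => mem_of_fixed hF hM hzF
      (fun h => hz1 (Subtype.ext (Subtype.ext h))) (hzc y hy)
  obtain ⟨t, ht1, ht2, htS, htc⟩ : ∃ t : G, t ≠ 1 ∧ t * t = 1 ∧ t ∈ (S : Subgroup G) ∧
      ∀ y ∈ (S : Subgroup G), t * y = y * t := by
    haveI : Nontrivial (S : Subgroup G) := ⟨⟨⟨u, hu⟩, 1, fun h => hu1 (congrArg Subtype.val h)⟩⟩
    haveI := S.2.center_nontrivial
    obtain ⟨w, hw⟩ := exists_prime_orderOf_dvd_card' (G := Subgroup.center (S : Subgroup G)) 2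
      ((S.2.to_subgroup _).card_eq_or_dvd.resolve_left (by
        have := Finite.one_lt_card (α := Subgroup.center (S : Subgroup G)); omega))
    have hw' : w * w = 1 := by rw [← pow_two]; exact orderOf_dvd_iff_pow_eq_one.1 hw.dvd
    refine ⟨((w : (S : Subgroup G)) : G), fun h => ?_,
      congrArg (fun v : Subgroup.center (S : Subgroup G) => ((v : (S : Subgroup G)) : G)) hw',
      SetLike.coe_mem _, fun y hy => (congrArg Subtype.val
        (Subgroup.mem_center_iff.1 w.2 ⟨y, hy⟩)).symm⟩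
    rw [show w = 1 from Subtype.ext (Subtype.ext h), orderOf_one] at hw
    norm_num at hw
  -- `F` is the centraliser of `t`
  have hcent : cent t = F M := by
    refine le_antisymm (fun y hy => mem_of_fixed hF hM (hSF htS) ht1 (mem_cent.1 hy).eq.symm)
      fun y hy => mem_cent.2 ?_
    obtain ⟨e, m, hm, hem⟩ := Nat.exists_eq_two_pow_mul_odd (orderOf_pos y).ne'
    have hodd : Commute (y ^ 2 ^ e) t := by
      have hto : orderOf (⟨t, hSF htS⟩ : F M) = 2 := by
        rw [Subgroup.orderOf_mk]; exact orderOf_eq_prime (by rw [pow_two, ht2]) ht1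
      have hco : (orderOf ((⟨y, hy⟩ : F M) ^ 2 ^ e)).Coprime (orderOf (⟨t, hSF htS⟩ : F M)) := by
        rw [hto, Nat.coprime_two_right]
        refine hm.of_dvd_nat (orderOf_dvd_of_pow_eq_one ?_)
        rw [← pow_mul, ← hem]
        exact Subtype.ext (by simp [pow_orderOf_eq_one])
      exact congrArg Subtype.val (Transfer.nilpotent_commute_of_coprime hnil hco).eq
    have htwo : Commute (y ^ m) t := by
      -- the `2`-part lies in the normal Sylow subgroup of `F`
      let P : Sylow 2 (F M) := S.subtype hSF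
      haveI : Subgroup.Normal (P : Subgroup (F M)) :=
        (Group.isNilpotent_of_finite_tfae (G := F M)).out 0 3 rfl rfl |>.mp hnil 2 inferInstance P
      have hp : IsPGroup 2 (Subgroup.zpowers (⟨y, hy⟩ ^ m : F M)) := by
        obtain ⟨j, -, hj⟩ := (Nat.dvd_prime_pow Nat.prime_two).1
          (orderOf_dvd_of_pow_eq_one (x := (⟨y, hy⟩ ^ m : F M)) (n := 2 ^ e) (by
            rw [← pow_mul, mul_comm, ← hem]
            exact Subtype.ext (by simp [pow_orderOf_eq_one])))
        exact IsPGroup.of_card (by rw [Nat.card_zpowers, hj])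
      have hsup : IsPGroup 2 ((P : Subgroup (F M)) ⊔ Subgroup.zpowers (⟨y, hy⟩ ^ m : F M) :
          Subgroup (F M)) := IsPGroup.to_sup_of_normal_left P.2 hp
      have := (P.3 hsup le_sup_left).le (Subgroup.mem_sup_right (Subgroup.mem_zpowers _))
      exact (htc _ this).symm
    obtain ⟨c, d, hcd⟩ : IsCoprime ((2 ^ e : ℕ) : ℤ) (m : ℤ) :=
      Nat.Coprime.isCoprime ((Nat.coprime_two_left.2 hm).pow_left e)
    have hy' : y = (y ^ 2 ^ e) ^ c * (y ^ m) ^ d := by
      rw [← zpow_natCast, ← zpow_natCast y m, ← zpow_mul, ← zpow_mul, ← zpow_add, mul_comm _ c,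
        mul_comm _ d, hcd, zpow_one]
    rw [hy']
    exact (hodd.zpow_left c).mul_left (htwo.zpow_left d)
  have hD : CC.Data G t :=
    { sub := fun a ha ha1 => by
        rw [hcent] at ha ⊢
        exact fun y hy => mem_of_fixed hF hM ha ha1 (mem_cent.1 hy).eq.symm
      t_ne := ht1
      t_sq := ht2
      sylow := ⟨S, hcent ▸ hSF⟩
      ne_top := by
        rw [hcent, normalizer_eq hF hM hF1]
        exact ms_ne_top hG hM
      ne_cent := by
        rw [hcent, normalizer_eq hF hM hF1]
        exact (ne_self hF hG hM hF1).symm }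
  obtain ⟨hsimple, hZ, hΩ, hU', b, hab, hT⟩ := CC.zassenhaus hD
  haveI := hsimple
  haveI := Fintype.ofFinite G
  haveI := Fintype.ofFinite (G ⧸ nrm t)
  by_cases hcomm : ∀ x ∈ cent t, ∀ y ∈ cent t, Commute x y
  · left
    have hCA : CA.Data G t :=
      { inv := fun x hx hx1 a ha c hc => by
          obtain ⟨g, hg⟩ := CC.conj_exists hD hx hx1
          have := hcomm _ (hg ▸ CA.conj_mem_cent.2 ha) _ (hg ▸ CA.conj_mem_cent.2 hc)
          exact (Commute.conj_iff g).1 this
        self := fun a ha ha1 => le_antisymm (hD.sub a ha ha1)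
          fun x hx => mem_cent.2 (hcomm x hx a ha)
        t_ne := ht1
        t_sq := ht2
        sylow := ⟨S, hcent ▸ hSF, htS⟩
        ne_top := hD.ne_top
        ne_cent := hD.ne_cent }
    obtain ⟨-, K, iK, iKK, f, hf, hK, -, ⟨e⟩⟩ := CA.psl_of_data hCA
    obtain ⟨ψ⟩ := OrderP.nonempty_psl_equiv_sl hK
    exact ⟨K, iK, iKK, ⟨f, hf, hK⟩, ⟨e.trans ψ⟩⟩
  · right
    have hodd : Odd (Nat.card ↥(Zass.two G (QuotientGroup.mk 1 : G ⧸ nrm t) b)) := by
      rw [hT]
      refine Nat.odd_iff.2 (Nat.two_dvd_ne_zero.1 fun hd => ?_)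
      refine S.not_dvd_index (dvd_trans ?_ (Subgroup.index_dvd_of_le (hcent.symm ▸ hSF)))
      rw [← Subgroup.relIndex_mul_index (CA.cent_le_nrm t)]
      exact dvd_mul_of_dvd_left hd _
    obtain ⟨p, k, hp, hk, hpk⟩ := ZassNormal.isPrimePow_kernel hZ hab hU' hodd
    have hp2 : p = 2 := by
      have h2' : orderOf (⟨t, mem_cent.2 (Commute.refl t)⟩ : cent t) = 2 := by
        rw [Subgroup.orderOf_mk]; exact orderOf_eq_prime (by rw [pow_two, ht2]) ht1
      have h2 : 2 ∣ Nat.card (cent t) := h2' ▸ orderOf_dvd_natCard _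
      rw [← hpk] at h2
      exact ((Nat.prime_dvd_prime_iff_eq Nat.prime_two hp.nat_prime).1
        (Nat.prime_two.dvd_of_dvd_pow h2)).symm
    subst hp2
    push Not at hcomm
    obtain ⟨x, hx, y, hy, hxy⟩ := hcomm
    exact SzUniq.isoSuzuki hZ hab hU' (IsPGroup.of_card hpk.symm)
      ⟨⟨x, hx⟩, ⟨y, hy⟩, fun h => hxy (congrArg Subtype.val h)⟩

end Cfsg.Agent.CharDeep.FSys
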